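import Groth.Agent.Lib.Formal2Sec7.Main
import Groth.Agent.Lib.Formal2Chase7.Basic

/-!
# The degree zero formal comparison on the punctured spectrum
-/

set_option autoImplicit false
set_option linter.style.haveILetI false

universe u

open CategoryTheory AlgebraicGeometry Opposite Formal2

noncomputable section

namespace GrothLib.Formal2Sec7

variable {A : Type u} [CommRing A] [IsNoetherianRing A] (𝔞 : Ideal A)
variable {M N : Type u} [AddCommGroup M] [Module A M] [AddCommGroup N] [Module A N]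

/-- Degree zero cohomology on the punctured spectrum is sections. -/
def toSc (M : Type u) [AddCommGroup M] [Module A M] :
    HV A M 0 (LocCoh.puncturedOpen A 𝔞) ≃+ Sc 𝔞 M :=
  Formal2Chase7.toSec M (LocCoh.puncturedOpen A 𝔞)

theorem toSc_map (φ : M →ₗ[A] N) (ξ : HV A M 0 (LocCoh.puncturedOpen A 𝔞)) :
    toSc 𝔞 N (HVmap A φ 0 (LocCoh.puncturedOpen A 𝔞) ξ) = sm 𝔞 φ (toSc 𝔞 M ξ) :=
  Formal2Chase7.toSec_map φ (LocCoh.puncturedOpen A 𝔞) ξ

variable (f : A) [IsAdicComplete (Ideal.span ({f} : Set A)) A] [Module.Finite A M]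

theorem formalCohBijective (h₁ : ∃ n : ℕ, ∀ x : LocCoh.H 𝔞 1 M, f ^ n • x = 0)
    (h₂ : ∃ n : ℕ, ∀ x : LocCoh.H 𝔞 2 M, f ^ n • x = 0) :
    FormalCohBijective A (Ideal.span ({f} : Set A)) M 0 (LocCoh.puncturedOpen A 𝔞) := by
  obtain ⟨inj, surj⟩ := bijective_of_killed 𝔞 f h₁ h₂
  refine ⟨fun x x' h => (toSc 𝔞 M).injective (sub_eq_zero.1 (inj _ fun n => ?_)), fun y hy => ?_⟩
  · rw [map_sub, ← toSc_map, ← toSc_map, h n, sub_self]
  · obtain ⟨s, hs⟩ := surj (fun n => toSc 𝔞 _ (y n)) fun n => by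
      rw [← toSc_map, hy n]
    refine ⟨(toSc 𝔞 M).symm s, fun n => (toSc 𝔞 _).injective ?_⟩
    rw [toSc_map, AddEquiv.apply_symm_apply, hs]

end GrothLib.Formal2Sec7
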