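import Groth.Agent.Lib.Punctured.LocalCohom
import Mathlib.Algebra.Category.ModuleCat.EnoughInjectives

/-!
# Sections over the punctured spectrum as a functor of the module
-/

set_option autoImplicit false
set_option linter.style.haveILetI false

universe u

open CategoryTheory CategoryTheory.Limits AlgebraicGeometry Opposite

noncomputable section

namespace GrothLib.Formal2Sec7

variable {A : Type u} [CommRing A] [IsNoetherianRing A] (𝔞 : Ideal A)

/-- Sections of `M~` over the punctured spectrum. -/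
abbrev Sc (M : Type u) [AddCommGroup M] [Module A M] : Type u :=
  Punctured.sec 𝔞 (ModuleCat.of (CommRingCat.of A) M)

variable {M N P : Type u} [AddCommGroup M] [Module A M] [AddCommGroup N] [Module A N]
  [AddCommGroup P] [Module A P]

/-- The canonical map to sections. -/
def j (M : Type u) [AddCommGroup M] [Module A M] : M →ₗ[A] Sc 𝔞 M :=
  (tilde.toOpen (ModuleCat.of (CommRingCat.of A) M) (LocCoh.puncturedOpen A 𝔞)).hom

/-- The map on sections. -/
def sm (φ : M →ₗ[A] N) : Sc 𝔞 M →ₗ[A] Sc 𝔞 N :=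
  (Punctured.secMap 𝔞 (ModuleCat.ofHom (R := CommRingCat.of A) φ)).hom

theorem sm_j (φ : M →ₗ[A] N) (m : M) : sm 𝔞 φ (j 𝔞 M m) = j 𝔞 N (φ m) :=
  Punctured.secMap_toOpen 𝔞 (ModuleCat.ofHom (R := CommRingCat.of A) φ) m

theorem secMap_comp {M N P : ModuleCat.{u} (CommRingCat.of A)} (f : M ⟶ N) (g : N ⟶ P)
    (s : Punctured.sec 𝔞 M) :
    Punctured.secMap 𝔞 (f ≫ g) s = Punctured.secMap 𝔞 g (Punctured.secMap 𝔞 f s) := by
  show ((tilde.functor (CommRingCat.of A) ⋙ modulesSpecToSheaf).map (f ≫ g)).hom.app (op (LocCoh.puncturedOpen A 𝔞)) s = _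
  rw [Functor.map_comp]
  rfl

theorem secMap_id {M : ModuleCat.{u} (CommRingCat.of A)} (s : Punctured.sec 𝔞 M) :
    Punctured.secMap 𝔞 (𝟙 M) s = s := by
  show ((tilde.functor (CommRingCat.of A) ⋙ modulesSpecToSheaf).map (𝟙 M)).hom.app (op (LocCoh.puncturedOpen A 𝔞)) s = _
  rw [CategoryTheory.Functor.map_id]
  rfl

theorem sm_comp (φ : M →ₗ[A] N) (ψ : N →ₗ[A] P) (s : Sc 𝔞 M) :
    sm 𝔞 (ψ ∘ₗ φ) s = sm 𝔞 ψ (sm 𝔞 φ s) :=
  secMap_comp 𝔞 (ModuleCat.ofHom (R := CommRingCat.of A) φ) (ModuleCat.ofHom (R := CommRingCat.of A) ψ) s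

theorem sm_id (s : Sc 𝔞 M) : sm 𝔞 (LinearMap.id : M →ₗ[A] M) s = s :=
  secMap_id 𝔞 (M := ModuleCat.of (CommRingCat.of A) M) s

theorem exists_sm_eq_of_shortExact (f : M →ₗ[A] N) (g : N →ₗ[A] P) (hf : Function.Injective f)
    (hg : Function.Surjective g) (hfg : LinearMap.range f = LinearMap.ker g) :
    Function.Injective (sm 𝔞 f) ∧ ∀ y : Sc 𝔞 N, sm 𝔞 g y = 0 → ∃ x, sm 𝔞 f x = y := by
  let S : ShortComplex (ModuleCat.{u} (CommRingCat.of A)) :=
    ShortComplex.mk (ModuleCat.ofHom (R := CommRingCat.of A) f) (ModuleCat.ofHom (R := CommRingCat.of A) g)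
      (ModuleCat.hom_ext (LinearMap.ext fun m => (hfg ▸ LinearMap.mem_range_self f m : f m ∈ LinearMap.ker g)))
  have hS : S.ShortExact :=
    { exact := (ShortComplex.moduleCat_exact_iff _).2 fun m hm => hfg.ge hm
      mono_f := (ModuleCat.mono_iff_injective _).2 hf
      epi_g := (ModuleCat.epi_iff_surjective _).2 hg }
  refine ⟨fun a b h => ?_, fun y hy => ?_⟩
  · exact Punctured.secMap_f_injective 𝔞 hS (a₁ := a) (a₂ := b) h
  · exact Punctured.exists_secMap_f_eq 𝔞 hS (y := y) hy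

theorem sm_injective (f : M →ₗ[A] N) (hf : Function.Injective f) : Function.Injective (sm 𝔞 f) :=
  (exists_sm_eq_of_shortExact 𝔞 f (LinearMap.range f).mkQ hf (Submodule.mkQ_surjective _)
    (Submodule.ker_mkQ _).symm).1

theorem exists_injective (M : Type u) [AddCommGroup M] [Module A M] :
    ∃ (E : Type u) (_ : AddCommGroup E) (_ : Module A E), Module.Injective A E ∧
      ∃ ι : M →ₗ[A] E, Function.Injective ι := by
  let M' : ModuleCat.{u} A := ModuleCat.of A M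
  let E' : ModuleCat.{u} A := Injective.under M'
  haveI : Injective E' := inferInstanceAs (Injective (Injective.under M'))
  exact ⟨E', E'.isAddCommGroup, E'.isModule, Module.injective_module_of_injective_object A E',
    (Injective.ι M').hom, (ModuleCat.mono_iff_injective _).1 inferInstance⟩

theorem j_surjective (E : Type u) [AddCommGroup E] [Module A E] [h : Module.Injective A E] :
    Function.Surjective (j 𝔞 E) := by
  haveI : Module.Injective (CommRingCat.of A) (ModuleCat.of (CommRingCat.of A) E) := h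
  exact Punctured.toOpen_surjective_of_injective 𝔞 (ModuleCat.of (CommRingCat.of A) E)

theorem sm_smul (a : A) (φ : M →ₗ[A] N) (s : Sc 𝔞 M) : sm 𝔞 (a • φ) s = a • sm 𝔞 φ s := by
  obtain ⟨E, _, _, hE, ι, hι⟩ := exists_injective (A := A) M
  obtain ⟨E', _, _, hE', ι', hι'⟩ := exists_injective (A := A) N
  haveI := hE
  haveI := hE'
  obtain ⟨ψ, hψ⟩ := Module.Injective.out (R := A) ι hι (ι' ∘ₗ φ)
  have h1 : ι' ∘ₗ (a • φ) = (a • ψ) ∘ₗ ι := LinearMap.ext fun m => by simp [hψ m]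
  have h2 : ι' ∘ₗ φ = ψ ∘ₗ ι := LinearMap.ext fun m => (hψ m).symm
  obtain ⟨e, he⟩ := j_surjective 𝔞 E (sm 𝔞 ι s)
  apply sm_injective 𝔞 ι' hι'
  rw [map_smul, ← sm_comp, ← sm_comp, h1, h2, sm_comp, sm_comp, ← he, sm_j, sm_j, LinearMap.smul_apply, map_smul]

theorem sm_add (φ φ' : M →ₗ[A] N) (s : Sc 𝔞 M) : sm 𝔞 (φ + φ') s = sm 𝔞 φ s + sm 𝔞 φ' s := by
  obtain ⟨E, _, _, hE, ι, hι⟩ := exists_injective (A := A) M
  obtain ⟨E', _, _, hE', ι', hι'⟩ := exists_injective (A := A) N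
  haveI := hE
  haveI := hE'
  obtain ⟨ψ, hψ⟩ := Module.Injective.out (R := A) ι hι (ι' ∘ₗ φ)
  obtain ⟨ψ', hψ'⟩ := Module.Injective.out (R := A) ι hι (ι' ∘ₗ φ')
  have h1 : ι' ∘ₗ (φ + φ') = (ψ + ψ') ∘ₗ ι := LinearMap.ext fun m => by simp [hψ m, hψ' m]
  have h2 : ι' ∘ₗ φ = ψ ∘ₗ ι := LinearMap.ext fun m => (hψ m).symm
  have h3 : ι' ∘ₗ φ' = ψ' ∘ₗ ι := LinearMap.ext fun m => (hψ' m).symm
  obtain ⟨e, he⟩ := j_surjective 𝔞 E (sm 𝔞 ι s)
  apply sm_injective 𝔞 ι' hι'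
  rw [map_add, ← sm_comp, ← sm_comp, ← sm_comp, h1, h2, h3, sm_comp, sm_comp, sm_comp, ← he, sm_j, sm_j, sm_j,
    LinearMap.add_apply, map_add]

theorem sm_zero (s : Sc 𝔞 M) : sm 𝔞 (0 : M →ₗ[A] N) s = 0 := by
  rw [show (0 : M →ₗ[A] N) = (0 : A) • (0 : M →ₗ[A] N) from (zero_smul A _).symm, sm_smul, zero_smul]

theorem sm_sub (φ φ' : M →ₗ[A] N) (s : Sc 𝔞 M) : sm 𝔞 (φ - φ') s = sm 𝔞 φ s - sm 𝔞 φ' s :=
  eq_sub_of_add_eq (by rw [← sm_add, sub_add_cancel])

theorem exists_sm_eq (f : M →ₗ[A] N) (g : N →ₗ[A] P) (hf : Function.Injective f)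
    (hfg : LinearMap.range f = LinearMap.ker g) {y : Sc 𝔞 N} (hy : sm 𝔞 g y = 0) :
    ∃ x, sm 𝔞 f x = y := by
  refine (exists_sm_eq_of_shortExact 𝔞 f (LinearMap.ker g).mkQ hf (Submodule.mkQ_surjective _)
    (hfg.trans (Submodule.ker_mkQ _).symm)).2 y ?_
  let g' : (N ⧸ LinearMap.ker g) →ₗ[A] P := (LinearMap.ker g).liftQ g le_rfl
  have hg' : Function.Injective g' :=
    LinearMap.ker_eq_bot.1 (Submodule.ker_liftQ_eq_bot _ _ _ le_rfl)
  apply sm_injective 𝔞 g' hg'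
  rw [map_zero, ← sm_comp, show g' ∘ₗ (LinearMap.ker g).mkQ = g from Submodule.liftQ_mkQ _ _ _, hy]

/-- Sections commute with finite limits: fibre products. -/
theorem exists_of_pullback {P' : Type u} [AddCommGroup P'] [Module A P'] (f₁ : M →ₗ[A] N) (f₂ : M →ₗ[A] P)
    (g₁ : N →ₗ[A] P') (g₂ : P →ₗ[A] P') (hinj : ∀ m, f₁ m = 0 → f₂ m = 0 → m = 0)
    (hcomm : g₁ ∘ₗ f₁ = g₂ ∘ₗ f₂) (hex : ∀ x y, g₁ x = g₂ y → ∃ m, f₁ m = x ∧ f₂ m = y)
    {x : Sc 𝔞 N} {y : Sc 𝔞 P} (h : sm 𝔞 g₁ x = sm 𝔞 g₂ y) :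
    ∃ s, sm 𝔞 f₁ s = x ∧ sm 𝔞 f₂ s = y := by
  let d : N × P →ₗ[A] P' := g₁ ∘ₗ LinearMap.fst A N P - g₂ ∘ₗ LinearMap.snd A N P
  have hd : LinearMap.range (f₁.prod f₂) = LinearMap.ker d := by
    ext ⟨a, b⟩
    simp only [d, LinearMap.mem_range, LinearMap.mem_ker, LinearMap.sub_apply, LinearMap.coe_comp,
      Function.comp_apply, LinearMap.fst_apply, LinearMap.snd_apply, sub_eq_zero, LinearMap.prod_apply,
      Function.prod, Prod.mk.injEq]
    exact ⟨fun ⟨m, h1, h2⟩ => h1 ▸ h2 ▸ LinearMap.congr_fun hcomm m, hex a b⟩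
  have hi : Function.Injective (f₁.prod f₂) := (injective_iff_map_eq_zero _).2 fun m hm => by
    simp only [LinearMap.prod_apply, Function.prod, Prod.mk_eq_zero] at hm
    exact hinj m hm.1 hm.2
  obtain ⟨s, hs⟩ := exists_sm_eq 𝔞 _ d hi hd
    (y := sm 𝔞 (LinearMap.inl A N P) x + sm 𝔞 (LinearMap.inr A N P) y) (by
      rw [map_add, ← sm_comp, ← sm_comp,
        show d ∘ₗ LinearMap.inl A N P = g₁ by ext; simp [d],
        show d ∘ₗ LinearMap.inr A N P = -g₂ by ext; simp [d],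
        show -g₂ = (0 : P →ₗ[A] P') - g₂ from (zero_sub g₂).symm, sm_sub, sm_zero, zero_sub, h, add_neg_cancel])
  refine ⟨s, ?_, ?_⟩
  · have := congrArg (sm 𝔞 (LinearMap.fst A N P)) hs
    rw [map_add, ← sm_comp, ← sm_comp, ← sm_comp, LinearMap.fst_prod, LinearMap.fst_comp_inl,
      LinearMap.fst_comp_inr, sm_id, sm_zero, add_zero] at this
    exact this
  · have := congrArg (sm 𝔞 (LinearMap.snd A N P)) hs
    rw [map_add, ← sm_comp, ← sm_comp, ← sm_comp, LinearMap.snd_prod, LinearMap.snd_comp_inl,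
      LinearMap.snd_comp_inr, sm_id, sm_zero, zero_add] at this
    exact this

/-- A power killing `H^1` moves sections into the image of the module. -/
theorem exists_pow_j (a : A) (hH : ∀ x : LocCoh.H 𝔞 1 M, a • x = 0) (s : Sc 𝔞 M) :
    ∃ m, j 𝔞 M m = a • s := by
  obtain ⟨S, hS, hX, hE⟩ := Punctured.exists_mono_injective' (ModuleCat.of (CommRingCat.of A) M)
  obtain ⟨e⟩ := Punctured.nonempty_coker_equiv 𝔞 hS hE
  rw [hX] at e
  have h0 : (Submodule.Quotient.mk (a • s) : Punctured.cokerSec 𝔞 (ModuleCat.of (CommRingCat.of A) M)) = 0 := by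
    apply e.injective
    rw [Submodule.Quotient.mk_smul, map_smul, map_zero]
    exact hH _
  exact (Submodule.Quotient.mk_eq_zero _).1 h0

/-- A power killing `H^2` kills the obstruction to lifting sections from the cokernel of an injective hull. -/
theorem exists_pow_j_coker (a : A) (hH : ∀ x : LocCoh.H 𝔞 2 M, a • x = 0) {E C : Type u} [AddCommGroup E]
    [Module A E] [AddCommGroup C] [Module A C] [hE : Module.Injective A E] (ι : M →ₗ[A] E)
    (hι : Function.Injective ι) (g : E →ₗ[A] C) (hg : Function.Surjective g)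
    (hιg : LinearMap.range ι = LinearMap.ker g) (s : Sc 𝔞 C) :
    ∃ c, j 𝔞 C c = a • s := by
  let S : ShortComplex (ModuleCat.{u} (CommRingCat.of A)) :=
    ShortComplex.mk (ModuleCat.ofHom (R := CommRingCat.of A) ι) (ModuleCat.ofHom (R := CommRingCat.of A) g)
      (ModuleCat.hom_ext (LinearMap.ext fun m => (hιg ▸ LinearMap.mem_range_self ι m : ι m ∈ LinearMap.ker g)))
  have hS : S.ShortExact :=
    { exact := (ShortComplex.moduleCat_exact_iff _).2 fun m hm => hιg.ge hm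
      mono_f := (ModuleCat.mono_iff_injective _).2 hι
      epi_g := (ModuleCat.epi_iff_surjective _).2 hg }
  haveI : Module.Injective (CommRingCat.of A) S.X₂ := hE
  haveI : Injective S.X₂ := Module.injective_object_of_injective_module _ _
  obtain ⟨T, hT, hTX, hTE⟩ := Punctured.exists_mono_injective' S.X₃
  obtain ⟨e⟩ := Punctured.nonempty_coker_equiv 𝔞 hT hTE
  rw [hTX] at e
  let e' := LC.shiftEquiv (R := CommRingCat.of A) 𝔞 hS
    (fun i => LC.subsingleton_of_injective (R := CommRingCat.of A) 𝔞 S.X₂ i) 0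
  have h0 : (Submodule.Quotient.mk (a • s) : Punctured.cokerSec 𝔞 (ModuleCat.of (CommRingCat.of A) C)) = 0 := by
    apply (e.trans e').injective
    rw [Submodule.Quotient.mk_smul, map_smul, map_zero]
    exact hH _
  exact (Submodule.Quotient.mk_eq_zero _).1 h0

end GrothLib.Formal2Sec7
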