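import Groth.Agent.Lib.Formal2Sec7.Basic
import Groth.Agent.Lib.DispRigid.Normal
import Groth.Agent.Lib.AdicExtra.Complete
import Mathlib.RingTheory.AdicCompletion.Noetherian
import Groth.Prelude.Def_Formal2

/-!
# Formal sections over the punctured spectrum when low local cohomology is killed by a power
-/

set_option autoImplicit false
set_option linter.style.haveILetI false

universe u

open CategoryTheory AlgebraicGeometry Formal2

noncomputable section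

namespace GrothLib.Formal2Sec7

variable {A : Type u} [CommRing A] [IsNoetherianRing A] (𝔞 : Ideal A) (f : A)
variable {M Q : Type u} [AddCommGroup M] [Module A M] [AddCommGroup Q] [Module A Q]


omit [IsNoetherianRing A] in
theorem mem_pow_smul {n : ℕ} {x : M} : x ∈ (Ideal.span ({f} : Set A)) ^ n • (⊤ : Submodule A M) ↔ ∃ y, f ^ n • y = x := by
  rw [Ideal.span_singleton_pow, Submodule.ideal_span_singleton_smul]
  constructor
  · rintro ⟨y, -, rfl⟩
    exact ⟨y, rfl⟩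
  · rintro ⟨y, rfl⟩
    exact ⟨y, trivial, rfl⟩

/-- The transition from level `N` to level `n`. -/
def tr (M : Type u) [AddCommGroup M] [Module A M] {n N : ℕ} (h : n ≤ N) : quotPow A (Ideal.span ({f} : Set A)) M N →ₗ[A] quotPow A (Ideal.span ({f} : Set A)) M n :=
  Submodule.factor (Submodule.smul_mono_left (Ideal.pow_le_pow_right (Nat.succ_le_succ h)))

omit [IsNoetherianRing A] in
theorem tr_refl (n : ℕ) : tr f M (le_refl n) = LinearMap.id :=
  LinearMap.ext fun m => Submodule.Quotient.induction_on _ m fun x => rfl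

omit [IsNoetherianRing A] in
theorem factor_comp_mapQ (p q r : Submodule A M) (h1 : p ≤ r) (h2 : q ≤ r) (h3 : p ≤ Submodule.comap LinearMap.id q) :
    Submodule.factor h1 = Submodule.factor h2 ∘ₗ Submodule.mapQ p q LinearMap.id h3 :=
  LinearMap.ext fun m => Submodule.Quotient.induction_on _ m fun x => rfl

omit [IsNoetherianRing A] in
theorem tr_succ {n N : ℕ} (h : n ≤ N) :
    tr f M (Nat.le_succ_of_le h) = tr f M h ∘ₗ quotPowTrans A (Ideal.span ({f} : Set A)) M N :=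
  factor_comp_mapQ (M := M) _ _ _ (Submodule.smul_mono_left (Ideal.pow_le_pow_right (Nat.succ_le_succ (Nat.le_succ_of_le h))))
    (Submodule.smul_mono_left (Ideal.pow_le_pow_right (Nat.succ_le_succ h))) _

/-- Iterated transition maps in an abstract tower. -/
theorem iter_compat {G : ℕ → Type*} (t : ∀ n N, n ≤ N → G N → G n) (σ : ∀ n, G (n + 1) → G n) (z : ∀ n, G n)
    (hz : ∀ n, σ n (z (n + 1)) = z n) (h0 : ∀ n x, t n n le_rfl x = x)
    (h1 : ∀ n N (h : n ≤ N) x, t n (N + 1) (Nat.le_succ_of_le h) x = t n N h (σ N x)) {n : ℕ} :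
    ∀ {N : ℕ} (h : n ≤ N), t n N h (z N) = z n := by
  intro N h
  induction h with
  | refl => exact h0 n _
  | @step N h ih => exact (h1 n N h _).trans ((congrArg (t n N h) (hz N)).trans ih)

theorem tr_compat (z : ∀ n, Sc 𝔞 (quotPow A (Ideal.span ({f} : Set A)) M n))
    (hz : ∀ n, sm 𝔞 (quotPowTrans A (Ideal.span ({f} : Set A)) M n) (z (n + 1)) = z n) {n : ℕ}
    {N : ℕ} (h : n ≤ N) : sm 𝔞 (tr f M h) (z N) = z n :=
  iter_compat (G := fun n => Sc 𝔞 (quotPow A (Ideal.span ({f} : Set A)) M n))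
    (fun _ _ h x => sm 𝔞 (tr f M h) x) (fun n x => sm 𝔞 (quotPowTrans A (Ideal.span ({f} : Set A)) M n) x)
    z hz (fun n x => (congrArg (fun φ => sm 𝔞 φ x) (tr_refl f n)).trans (sm_id 𝔞 x))
    (fun n N h x => (congrArg (fun φ => sm 𝔞 φ x) (tr_succ f h)).trans (sm_comp 𝔞 _ _ x)) h

/-- Hypothesis: sections move into the module. -/
def C1 (M : Type u) [AddCommGroup M] [Module A M] (c : ℕ) : Prop :=
  ∀ s : Sc 𝔞 M, ∃ m, j 𝔞 M m = f ^ c • s

/-- Hypothesis: obstructions are killed. -/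
def C2 (M : Type u) [AddCommGroup M] [Module A M] (c : ℕ) : Prop :=
  ∀ (E C : Type u) [AddCommGroup E] [Module A E] [AddCommGroup C] [Module A C],
    Module.Injective A E → ∀ (ι : M →ₗ[A] E) (g : E →ₗ[A] C), Function.Injective ι → Function.Surjective g →
      LinearMap.range ι = LinearMap.ker g → ∀ s : Sc 𝔞 C, ∃ e : Sc 𝔞 E, sm 𝔞 g e = f ^ c • s

theorem c1_of_H (c : ℕ) (h : ∀ x : LocCoh.H 𝔞 1 M, f ^ c • x = 0) : C1 𝔞 f M c :=
  fun s => exists_pow_j 𝔞 (f ^ c) h s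

theorem c2_of_H (c : ℕ) (h : ∀ x : LocCoh.H 𝔞 2 M, f ^ c • x = 0) : C2 𝔞 f M c := by
  intro E C _ _ _ _ hE ι g hι hg hιg s
  obtain ⟨c0, hc0⟩ := exists_pow_j_coker 𝔞 (f ^ c) h ι hι g hg hιg s
  obtain ⟨e0, rfl⟩ := hg c0
  exact ⟨j 𝔞 E e0, (sm_j 𝔞 g e0).trans hc0⟩

theorem injective_pow_smul (hreg : IsSMulRegular Q f) (c : ℕ) {s t : Sc 𝔞 Q} (h : f ^ c • s = f ^ c • t) :
    s = t := by
  refine sm_injective 𝔞 (f ^ c • (LinearMap.id : Q →ₗ[A] Q)) (fun a b hab => hreg.pow c hab) ?_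
  rwa [sm_smul, sm_smul, sm_id, sm_id]

theorem finite_sc [Module.Finite A Q] (hreg : IsSMulRegular Q f) {c : ℕ} (h1 : C1 𝔞 f Q c) :
    Module.Finite A (Sc 𝔞 Q) := by
  haveI : IsNoetherian A (LinearMap.range (j 𝔞 Q)) := isNoetherian_of_fg_of_noetherian _
    (by rw [LinearMap.range_eq_map]; exact (Module.Finite.fg_top (R := A) (M := Q)).map _)
  let φ : Sc 𝔞 Q →ₗ[A] LinearMap.range (j 𝔞 Q) :=
    (f ^ c • (LinearMap.id : Sc 𝔞 Q →ₗ[A] Sc 𝔞 Q)).codRestrict _ fun s => h1 s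
  exact Module.Finite.of_injective φ fun s t hst => injective_pow_smul 𝔞 f hreg c (congrArg Subtype.val hst)

/-- A section modulo `f^(n+c+1)` lifts modulo `f^(n+1)`. -/
theorem exists_lift (hreg : IsSMulRegular Q f) {c : ℕ} (h2 : C2 𝔞 f Q c) (n : ℕ)
    (y : Sc 𝔞 (quotPow A (Ideal.span ({f} : Set A)) Q (n + c))) :
    ∃ x : Sc 𝔞 Q, sm 𝔞 (quotPowπ A (Ideal.span ({f} : Set A)) Q n) x = sm 𝔞 (tr f Q (Nat.le_add_right n c)) y := by
  obtain ⟨E, _, _, hE, ι, hι⟩ := exists_injective (A := A) Q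
  let g := (LinearMap.range ι).mkQ
  have hιg : LinearMap.range ι = LinearMap.ker g := (Submodule.ker_mkQ _).symm
  have hgι : ∀ q, g (ι q) = 0 := fun q => (Submodule.Quotient.mk_eq_zero _).2 ⟨q, rfl⟩
  let N := n + c + 1
  obtain ⟨h, hh⟩ := hE.out (f ^ N • (LinearMap.id : Q →ₗ[A] Q)) (fun a b hab => hreg.pow N hab) ι
  have hh' : ∀ q, h (f ^ N • q) = ι q := fun q => hh q
  let δ : quotPow A (Ideal.span ({f} : Set A)) Q (n + c) →ₗ[A] (E ⧸ LinearMap.range ι) :=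
    Submodule.liftQ _ (g ∘ₗ h) fun q hq => by
      obtain ⟨q', rfl⟩ := (mem_pow_smul f).1 hq
      rw [LinearMap.mem_ker, LinearMap.comp_apply, hh']
      exact hgι q'
  have hδ : ∀ q, δ (Submodule.Quotient.mk q) = g (h q) := fun q => rfl
  obtain ⟨e, he⟩ := h2 E _ hE ι g hι (Submodule.mkQ_surjective _) hιg (sm 𝔞 δ y)
  have hδ0 : (f ^ (n + 1) * f ^ c) • δ = 0 := LinearMap.ext fun m =>
    Submodule.Quotient.induction_on _ m fun q => by
      rw [LinearMap.smul_apply, hδ, ← map_smul, ← map_smul, ← pow_add, show n + 1 + c = N by omega, hh']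
      exact hgι q
  obtain ⟨x, hx⟩ := exists_sm_eq 𝔞 ι g hι hιg (y := f ^ (n + 1) • e) (by
    rw [map_smul, he, smul_smul, ← sm_smul, hδ0, sm_zero])
  let d : E × quotPow A (Ideal.span ({f} : Set A)) Q (n + c) →ₗ[A] (E ⧸ LinearMap.range ι) :=
    g ∘ₗ LinearMap.fst A E _ - (f ^ c • δ) ∘ₗ LinearMap.snd A E _
  let K := LinearMap.ker d
  let p₁ : K →ₗ[A] E := LinearMap.fst A E _ ∘ₗ K.subtype
  let p₂ : K →ₗ[A] quotPow A (Ideal.span ({f} : Set A)) Q (n + c) := LinearMap.snd A E _ ∘ₗ K.subtype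
  obtain ⟨k, hk₁, hk₂⟩ := exists_of_pullback 𝔞 p₁ p₂ g (f ^ c • δ)
    (fun m h1 h2 => Subtype.ext (Prod.ext h1 h2))
    (LinearMap.ext fun m => sub_eq_zero.1 (LinearMap.mem_ker.1 m.2))
    (fun a b hab => ⟨⟨(a, b), LinearMap.mem_ker.2 (sub_eq_zero.2 hab)⟩, rfl, rfl⟩)
    (x := e) (y := y) (by rw [sm_smul, he])
  have key : ∀ m : K, ∃ q : Q, ι q = f ^ (n + 1) • p₁ m ∧
      quotPowπ A (Ideal.span ({f} : Set A)) Q n q = tr f Q (Nat.le_add_right n c) (p₂ m) := by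
    rintro ⟨⟨a, b⟩, hab⟩
    obtain ⟨q, rfl⟩ := Submodule.Quotient.mk_surjective _ b
    have h0 : g (a - f ^ c • h q) = 0 := by
      rw [map_sub, map_smul]
      exact LinearMap.mem_ker.1 hab
    obtain ⟨q₁, hq₁⟩ := (Submodule.Quotient.mk_eq_zero _).1 h0
    refine ⟨q + f ^ (n + 1) • q₁, ?_, ?_⟩
    · show ι _ = f ^ (n + 1) • a
      rw [map_add, map_smul, hq₁, smul_sub, smul_smul, ← pow_add, ← hh' q, map_smul,
        show n + 1 + c = N by omega, add_sub_cancel]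
    · show Submodule.Quotient.mk (q + f ^ (n + 1) • q₁) = Submodule.Quotient.mk q
      rw [Submodule.Quotient.eq, add_sub_cancel_left]
      exact (mem_pow_smul f).2 ⟨q₁, rfl⟩
  choose l hl₁ hl₂ using key
  let L : K →ₗ[A] Q :=
    { toFun := l
      map_add' := fun a b => hι (by simp only [map_add, hl₁, smul_add])
      map_smul' := fun r a => hι (by simp only [RingHom.id_apply, map_smul, hl₁, smul_comm r]) }
  refine ⟨x, ?_⟩
  have hxL : sm 𝔞 L k = x := by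
    apply sm_injective 𝔞 ι hι
    rw [hx, ← sm_comp, show ι ∘ₗ L = f ^ (n + 1) • p₁ from LinearMap.ext hl₁, sm_smul, hk₁]
  rw [← hxL, ← sm_comp, show quotPowπ A (Ideal.span ({f} : Set A)) Q n ∘ₗ L = tr f Q (Nat.le_add_right n c) ∘ₗ p₂ from
    LinearMap.ext hl₂, sm_comp, hk₂]

theorem sm_pi_kills (n : ℕ) (z : Sc 𝔞 Q) : sm 𝔞 (quotPowπ A (Ideal.span ({f} : Set A)) Q n) (f ^ (n + 1) • z) = 0 := by
  rw [map_smul, ← sm_smul, show f ^ (n + 1) • quotPowπ A (Ideal.span ({f} : Set A)) Q n = 0 from LinearMap.ext fun q => by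
    rw [LinearMap.smul_apply, ← map_smul]
    exact (Submodule.Quotient.mk_eq_zero _).2 ((mem_pow_smul f).2 ⟨q, rfl⟩), sm_zero]

theorem exists_pow_smul_eq (hreg : IsSMulRegular Q f) (n : ℕ) {z : Sc 𝔞 Q}
    (hz : sm 𝔞 (quotPowπ A (Ideal.span ({f} : Set A)) Q n) z = 0) : ∃ w, f ^ (n + 1) • w = z := by
  obtain ⟨w, hw⟩ := exists_sm_eq 𝔞 (f ^ (n + 1) • (LinearMap.id : Q →ₗ[A] Q)) (quotPowπ A (Ideal.span ({f} : Set A)) Q n)
    (fun a b hab => hreg.pow (n + 1) hab) (by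
      ext q
      rw [quotPowπ, Submodule.ker_mkQ, mem_pow_smul]
      rfl) hz
  exact ⟨w, by rw [← hw, sm_smul, sm_id]⟩

variable [IsAdicComplete (Ideal.span ({f} : Set A)) A]

/-- The regular case. -/
theorem bijective_regular [Module.Finite A Q] (hreg : IsSMulRegular Q f) {c : ℕ}
    (h1 : C1 𝔞 f Q c) (h2 : C2 𝔞 f Q c) :
    (∀ s : Sc 𝔞 Q, (∀ n, sm 𝔞 (quotPowπ A (Ideal.span ({f} : Set A)) Q n) s = 0) → s = 0) ∧
      ∀ y : ∀ n, Sc 𝔞 (quotPow A (Ideal.span ({f} : Set A)) Q n), (∀ n, sm 𝔞 (quotPowTrans A (Ideal.span ({f} : Set A)) Q n) (y (n + 1)) = y n) →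
        ∃ x : Sc 𝔞 Q, ∀ n, sm 𝔞 (quotPowπ A (Ideal.span ({f} : Set A)) Q n) x = y n := by
  haveI := finite_sc 𝔞 f hreg h1
  haveI : IsHausdorff (Ideal.span ({f} : Set A)) (Sc 𝔞 Q) := IsHausdorff.of_le_jacobson _ _ (IsAdicComplete.le_jacobson_bot (Ideal.span ({f} : Set A)))
  haveI : IsPrecomplete (Ideal.span ({f} : Set A)) (Sc 𝔞 Q) := by
    obtain ⟨r, g, hg⟩ := Module.Finite.exists_fin' A (Sc 𝔞 Q)
    haveI := DispRigid.isPrecomplete_pi (Ideal.span ({f} : Set A)) r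
    exact AdicExtra.isPrecomplete_of_surjective g hg
  refine ⟨fun s hs => IsHausdorff.haus ‹_› s fun n => ?_, fun y hy => ?_⟩
  · rw [SModEq.zero, mem_pow_smul]
    rcases n with - | n
    · exact ⟨s, by rw [pow_zero, one_smul]⟩
    · exact exists_pow_smul_eq 𝔞 f hreg n (hs n)
  · choose x hx using fun n => exists_lift 𝔞 f hreg h2 n (y (n + c))
    have hx' : ∀ n, sm 𝔞 (quotPowπ A (Ideal.span ({f} : Set A)) Q n) (x n) = y n := fun n =>
      (hx n).trans (tr_compat 𝔞 f y hy (Nat.le_add_right n c))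
    have hd : ∀ {m n : ℕ}, n ≤ m → sm 𝔞 (quotPowπ A (Ideal.span ({f} : Set A)) Q n) (x m) = y n := fun {m n} h => by
      rw [← tr_compat 𝔞 f y hy h, ← hx' m, ← sm_comp]
      rfl
    have hc : ∀ {n m : ℕ}, n ≤ m → x n ≡ x m [SMOD ((Ideal.span ({f} : Set A)) ^ n • ⊤ : Submodule A (Sc 𝔞 Q))] := fun {n m} h => by
      rw [SModEq.sub_mem, mem_pow_smul]
      rcases n with - | n
      · exact ⟨_, by rw [pow_zero, one_smul]⟩
      · exact exists_pow_smul_eq 𝔞 f hreg n (by rw [map_sub, hd (Nat.le_succ n), hd (by omega), sub_self])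
    obtain ⟨L, hL⟩ := IsPrecomplete.prec ‹_› hc
    refine ⟨L, fun n => ?_⟩
    obtain ⟨w, hw⟩ := (mem_pow_smul f).1 (SModEq.sub_mem.1 (hL (n + 1)))
    rw [show L = x (n + 1) - f ^ (n + 1) • w by rw [hw, sub_sub_cancel], map_sub, sm_pi_kills, sub_zero,
      hd (Nat.le_succ n)]

/-- Sections over the punctured spectrum are the formal sections. -/
theorem bijective_of_killed [Module.Finite A M] (h₁ : ∃ n : ℕ, ∀ x : LocCoh.H 𝔞 1 M, f ^ n • x = 0)
    (h₂ : ∃ n : ℕ, ∀ x : LocCoh.H 𝔞 2 M, f ^ n • x = 0) :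
    (∀ s : Sc 𝔞 M, (∀ n, sm 𝔞 (quotPowπ A (Ideal.span ({f} : Set A)) M n) s = 0) → s = 0) ∧
      ∀ y : ∀ n, Sc 𝔞 (quotPow A (Ideal.span ({f} : Set A)) M n), (∀ n, sm 𝔞 (quotPowTrans A (Ideal.span ({f} : Set A)) M n) (y (n + 1)) = y n) →
        ∃ x : Sc 𝔞 M, ∀ n, sm 𝔞 (quotPowπ A (Ideal.span ({f} : Set A)) M n) x = y n := by
  obtain ⟨c₁, hc₁⟩ := h₁
  obtain ⟨c₂, hc₂⟩ := h₂
  let K : ℕ →o Submodule A M :=
    ⟨fun i => LinearMap.ker (f ^ i • (LinearMap.id : M →ₗ[A] M)), fun i i' hii' m hm => by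
      obtain ⟨d, rfl⟩ := Nat.exists_eq_add_of_le hii'
      simp only [LinearMap.mem_ker, LinearMap.smul_apply, LinearMap.id_apply] at hm ⊢
      rw [pow_add, mul_comm, mul_smul, hm, smul_zero]⟩
  obtain ⟨b, hb⟩ := monotone_stabilizes_iff_noetherian.2 inferInstance K
  have hmemT : ∀ {i : ℕ}, b ≤ i → ∀ {m : M}, f ^ i • m = 0 → f ^ b • m = 0 := fun {i} hi {m} hm => by
    have h : m ∈ K b := by rw [hb i hi]; exact hm
    exact h
  let T := K b
  have hT : ∀ {m : M}, m ∈ T ↔ f ^ b • m = 0 := Iff.rfl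
  have hreg : IsSMulRegular (M ⧸ T) f := by
    rw [isSMulRegular_iff_right_eq_zero_of_smul]
    intro x
    induction x using Submodule.Quotient.induction_on with
    | H m =>
      intro hm
      rw [← Submodule.Quotient.mk_smul, Submodule.Quotient.mk_eq_zero, hT, smul_smul, ← pow_succ] at hm
      exact (Submodule.Quotient.mk_eq_zero _).2 (hT.2 (hmemT (Nat.le_succ b) hm))
  let π := T.mkQ
  let ψ : (M ⧸ T) →ₗ[A] M := T.liftQ (f ^ b • LinearMap.id) fun m hm => hm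
  have hπψ : π ∘ₗ ψ = f ^ b • LinearMap.id := LinearMap.ext fun x =>
    Submodule.Quotient.induction_on _ x fun m => rfl
  -- the hypotheses pass to the regular quotient
  have q1 : C1 𝔞 f (M ⧸ T) (c₁ + b) := fun s => by
    obtain ⟨m, hm⟩ := c1_of_H 𝔞 f c₁ hc₁ (sm 𝔞 ψ s)
    refine ⟨π m, ?_⟩
    rw [← sm_j, hm, map_smul, ← sm_comp, hπψ, sm_smul, sm_id, smul_smul, ← pow_add]
  have q2 : C2 𝔞 f (M ⧸ T) (b + c₂) := by
    intro E C _ _ _ _ hE ι g hι hg hιg s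
    obtain ⟨E', _, _, hE', ι', hι'⟩ := exists_injective (A := A) M
    let g' := (LinearMap.range ι').mkQ
    haveI := hE
    haveI := hE'
    obtain ⟨ψE, hψE⟩ := Module.Injective.out (R := A) ι hι (ι' ∘ₗ ψ)
    obtain ⟨πE, hπE⟩ := Module.Injective.out (R := A) ι' hι' (ι ∘ₗ π)
    have hgι : ∀ q, g (ι q) = 0 := fun q => LinearMap.mem_ker.1 (hιg ▸ LinearMap.mem_range_self ι q)
    let e := (LinearMap.range ι).liftQ g hιg.le
    have he : Function.Bijective e := ⟨LinearMap.ker_eq_bot.1 (Submodule.ker_liftQ_eq_bot _ _ _ hιg.ge),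
      fun c => by obtain ⟨x, rfl⟩ := hg c; exact ⟨Submodule.Quotient.mk x, rfl⟩⟩
    let eC := LinearEquiv.ofBijective e he
    have heC : ∀ x, eC.symm (g x) = Submodule.Quotient.mk x := fun x => eC.symm_apply_apply (Submodule.Quotient.mk x)
    let χ : C →ₗ[A] E' ⧸ LinearMap.range ι' :=
      (Submodule.mapQ _ (LinearMap.range ι') ψE (by rintro _ ⟨q, rfl⟩; exact ⟨ψ q, (hψE q).symm⟩)) ∘ₗ
        eC.symm.toLinearMap
    let ω : E' ⧸ LinearMap.range ι' →ₗ[A] C := (LinearMap.range ι').liftQ (g ∘ₗ πE) (by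
      rintro _ ⟨m, rfl⟩
      rw [LinearMap.mem_ker, LinearMap.comp_apply, hπE]
      exact hgι _)
    let u : C →ₗ[A] E := ((LinearMap.range ι).liftQ (πE ∘ₗ ψE - f ^ b • LinearMap.id) (by
      rintro _ ⟨q, rfl⟩
      rw [LinearMap.mem_ker, LinearMap.sub_apply, LinearMap.comp_apply, hψE q, LinearMap.comp_apply, hπE,
        LinearMap.comp_apply, sub_eq_zero]
      rw [show π (ψ q) = f ^ b • q from LinearMap.congr_fun hπψ q, map_smul]
      rfl)) ∘ₗ eC.symm.toLinearMap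
    have hrel : f ^ b • (LinearMap.id : C →ₗ[A] C) = ω ∘ₗ χ - g ∘ₗ u := LinearMap.ext fun z => by
      obtain ⟨x, rfl⟩ := hg z
      have hχ : χ (g x) = Submodule.Quotient.mk (ψE x) := by
        simp only [χ, LinearMap.comp_apply, LinearEquiv.coe_coe, heC]
        rfl
      have hu : u (g x) = πE (ψE x) - f ^ b • x := by
        simp only [u, LinearMap.comp_apply, LinearEquiv.coe_coe, heC]
        rfl
      show f ^ b • g x = ω (χ (g x)) - g (u (g x))
      rw [hχ, hu]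
      show f ^ b • g x = g (πE (ψE x)) - g (πE (ψE x) - f ^ b • x)
      rw [map_sub, sub_sub_cancel, map_smul]
    obtain ⟨e', he'⟩ := c2_of_H 𝔞 f c₂ hc₂ E' _ hE' ι' g' hι' (Submodule.mkQ_surjective _)
      (Submodule.ker_mkQ _).symm (sm 𝔞 χ s)
    refine ⟨sm 𝔞 πE e' - f ^ c₂ • sm 𝔞 u s, ?_⟩
    have hgπ : g ∘ₗ πE = ω ∘ₗ g' := rfl
    rw [map_sub, map_smul, ← sm_comp, hgπ, sm_comp, he', map_smul, ← smul_sub, ← sm_comp, ← sm_comp,
      ← sm_sub, ← hrel, sm_smul, sm_id, smul_smul, ← pow_add, add_comm c₂ b]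
  have hC : ∃ c, C1 𝔞 f (M ⧸ T) c ∧ C2 𝔞 f (M ⧸ T) c := by
    refine ⟨(c₁ + b) + (b + c₂), fun s => ?_, fun E C _ _ _ _ hE ι g hι hg hιg s => ?_⟩
    · obtain ⟨m, hm⟩ := q1 (f ^ (b + c₂) • s)
      exact ⟨m, by rw [hm, smul_smul, ← pow_add]⟩
    · obtain ⟨e, he⟩ := q2 E C hE ι g hι hg hιg (f ^ (c₁ + b) • s)
      exact ⟨e, by rw [he, smul_smul, ← pow_add, add_comm]⟩
  obtain ⟨c, hC1, hC2⟩ := hC
  obtain ⟨injQ, surjQ⟩ := bijective_regular 𝔞 f hreg hC1 hC2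
  let πn : ∀ n, quotPow A (Ideal.span ({f} : Set A)) M n →ₗ[A] quotPow A (Ideal.span ({f} : Set A)) (M ⧸ T) n := fun n =>
    Submodule.mapQ _ _ π fun x hx => by
      obtain ⟨y, rfl⟩ := (mem_pow_smul f).1 hx
      exact (mem_pow_smul f).2 ⟨π y, (map_smul π _ y).symm⟩
  have hπn : ∀ n, πn n ∘ₗ quotPowπ A (Ideal.span ({f} : Set A)) M n = quotPowπ A (Ideal.span ({f} : Set A)) (M ⧸ T) n ∘ₗ π := fun n => rfl
  have hzero : ∀ n, b ≤ n → ∀ m : M, π m = 0 → quotPowπ A (Ideal.span ({f} : Set A)) M n m = 0 → m = 0 := fun n hn m h1 h2 => by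
    obtain ⟨y, rfl⟩ := (mem_pow_smul f).1 ((Submodule.Quotient.mk_eq_zero _).1 h2)
    have h1' := hT.1 ((Submodule.Quotient.mk_eq_zero _).1 h1)
    rw [smul_smul, ← pow_add] at h1'
    have h3 := hmemT (Nat.le_add_right b (n + 1)) h1'
    rw [show n + 1 = n + 1 - b + b by omega, pow_add, mul_smul, h3, smul_zero]
  refine ⟨fun s hs => ?_, fun y hy => ?_⟩
  · have h1 : sm 𝔞 π s = 0 := injQ _ fun n => by rw [← sm_comp, ← hπn n, sm_comp, hs, map_zero]
    apply sm_injective 𝔞 (π.prod (quotPowπ A (Ideal.span ({f} : Set A)) M b)) ((injective_iff_map_eq_zero _).2 fun m hm => by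
      simp only [LinearMap.prod_apply, Function.prod, Prod.mk_eq_zero] at hm
      exact hzero b le_rfl m hm.1 hm.2)
    rw [map_zero, show π.prod (quotPowπ A (Ideal.span ({f} : Set A)) M b) = LinearMap.inl A _ _ ∘ₗ π + LinearMap.inr A _ _ ∘ₗ
      quotPowπ A (Ideal.span ({f} : Set A)) M b from LinearMap.ext fun m => Prod.ext (by simp) (by simp), sm_add, sm_comp, sm_comp,
      h1, hs b, map_zero, map_zero, add_zero]
  · obtain ⟨q, hq⟩ := surjQ (fun n => sm 𝔞 (πn n) (y n)) fun n => by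
      rw [← hy n, ← sm_comp, ← sm_comp]
      exact congrArg (fun φ => sm 𝔞 φ (y (n + 1)))
        (LinearMap.ext fun m => Submodule.Quotient.induction_on _ m fun x => rfl)
    have hlift : ∀ n, b ≤ n → ∃ x, sm 𝔞 π x = q ∧ sm 𝔞 (quotPowπ A (Ideal.span ({f} : Set A)) M n) x = y n := fun n hn => by
      refine exists_of_pullback 𝔞 π (quotPowπ A (Ideal.span ({f} : Set A)) M n) (quotPowπ A (Ideal.span ({f} : Set A)) (M ⧸ T) n) (πn n) (hzero n hn)
        (hπn n).symm (fun a a' haa' => ?_) (hq n)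
      obtain ⟨m₁, rfl⟩ := Submodule.mkQ_surjective T a
      obtain ⟨m₂, rfl⟩ := Submodule.mkQ_surjective _ a'
      obtain ⟨z, hz⟩ := (mem_pow_smul f).1 ((Submodule.Quotient.eq _).1 haa')
      obtain ⟨z, rfl⟩ := Submodule.mkQ_surjective T z
      refine ⟨m₂ + f ^ (n + 1) • z, ?_, ?_⟩
      · rw [map_add, map_smul]
        show π m₂ + f ^ (n + 1) • π z = π m₁
        rw [show f ^ (n + 1) • π z = π m₁ - π m₂ from hz, add_sub_cancel]
      · show Submodule.Quotient.mk (m₂ + f ^ (n + 1) • z) = Submodule.Quotient.mk m₂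
        rw [Submodule.Quotient.eq, add_sub_cancel_left]
        exact (mem_pow_smul f).2 ⟨z, rfl⟩
    obtain ⟨x, hx1, hx2⟩ := hlift b le_rfl
    have hbig : ∀ n, b ≤ n → sm 𝔞 (quotPowπ A (Ideal.span ({f} : Set A)) M n) x = y n := fun n hn => by
      obtain ⟨x', h1', h2'⟩ := hlift n hn
      suffices x = x' from this ▸ h2'
      apply sm_injective 𝔞 (π.prod (quotPowπ A (Ideal.span ({f} : Set A)) M b)) ((injective_iff_map_eq_zero _).2 fun m hm => by
        simp only [LinearMap.prod_apply, Function.prod, Prod.mk_eq_zero] at hm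
        exact hzero b le_rfl m hm.1 hm.2)
      have h2b : sm 𝔞 (quotPowπ A (Ideal.span ({f} : Set A)) M b) x' = y b := by
        rw [← tr_compat 𝔞 f y hy hn, ← h2', ← sm_comp]
        rfl
      rw [show π.prod (quotPowπ A (Ideal.span ({f} : Set A)) M b) = LinearMap.inl A _ _ ∘ₗ π + LinearMap.inr A _ _ ∘ₗ
        quotPowπ A (Ideal.span ({f} : Set A)) M b from LinearMap.ext fun m => Prod.ext (by simp) (by simp), sm_add, sm_add, sm_comp,
        sm_comp, sm_comp, sm_comp, hx1, h1', hx2, h2b]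
    refine ⟨x, fun n => ?_⟩
    rw [← tr_compat 𝔞 f y hy (Nat.le_add_right n b), ← hbig (n + b) (Nat.le_add_left b n), ← sm_comp]
    rfl

end GrothLib.Formal2Sec7
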